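import Cfsg.Agent.Lib.CharNormal.Galois
import Cfsg.Agent.Lib.CharNormal.LinearDivisor
import Mathlib.FieldTheory.Extension
import Mathlib.FieldTheory.PrimitiveElement
import Mathlib.RingTheory.Polynomial.Cyclotomic.Roots

/-!
# Irreducible characters of p-groups: kernel index against degree and value field
-/

set_option autoImplicit false

namespace CfsgLib.CharPGroup

open CfsgLib.Char CfsgLib.CharNormal IntermediateField
open scoped ComplexConjugate

universe u

noncomputable section

/-- The standard root of unity. -/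
abbrev rt (n : ℕ) : ℂ := Complex.exp (2 * Real.pi * Complex.I / n)

/-- The field of values. -/
abbrev vf {G : Type u} (χ : G → ℂ) : IntermediateField ℚ ℂ :=
  IntermediateField.adjoin ℚ (Set.range χ)

theorem finrank_cyclo {n : ℕ} (hn : 0 < n) :
    Module.finrank ℚ (IntermediateField.adjoin ℚ ({rt n} : Set ℂ)) = n.totient := by
  have h := Complex.isPrimitiveRoot_exp n hn.ne'
  rw [IntermediateField.adjoin.finrank ((h.isIntegral hn).tower_top),
    ← Polynomial.cyclotomic_eq_minpoly_rat h hn, Polynomial.natDegree_cyclotomic]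

theorem vf_le_cyclo {G : Type u} [Group G] [Finite G] {χ : G → ℂ} (hχ : Cfsg.IsCharacter G χ)
    {n : ℕ} (hn : 0 < n) (hdvd : ∀ g : G, orderOf g ∣ n) :
    vf χ ≤ IntermediateField.adjoin ℚ ({rt n} : Set ℂ) := by
  rw [IntermediateField.adjoin_le_iff]
  rintro _ ⟨g, rfl⟩
  obtain ⟨d, ρ, rfl⟩ := hχ
  obtain ⟨z, hz, hsum⟩ := exists_roots_char_pow ρ g
  have h1 := hsum 1
  rw [pow_one] at h1
  rw [h1]
  refine sum_mem fun i _ => ?_
  rw [pow_one]
  obtain ⟨c, hc⟩ := hdvd g
  have hzn : z i ^ n = 1 := by rw [hc, pow_mul, hz i, one_pow]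
  have : NeZero n := ⟨hn.ne'⟩
  obtain ⟨j, -, hj⟩ := (Complex.isPrimitiveRoot_exp n hn.ne').eq_pow_of_pow_eq_one hzn
  rw [← hj]
  exact pow_mem (IntermediateField.mem_adjoin_simple_self ℚ _) j

theorem finiteDimensional_cyclo {n : ℕ} (hn : 0 < n) :
    FiniteDimensional ℚ (IntermediateField.adjoin ℚ ({rt n} : Set ℂ)) :=
  IntermediateField.adjoin.finiteDimensional
    (((Complex.isPrimitiveRoot_exp n hn.ne').isIntegral hn).tower_top)

theorem shape {p k t d : ℕ} (hp : p.Prime) (hk : 0 < k) (h1 : (p - 1) * p ^ t ∣ d)
    (h2 : d ∣ (p ^ k).totient) : ∃ t', t ≤ t' ∧ d = (p - 1) * p ^ t' := by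
  rw [Nat.totient_prime_pow hp hk, mul_comm] at h2
  obtain ⟨m, rfl⟩ := h1
  have hp1 : 0 < p - 1 := Nat.sub_pos_of_lt hp.one_lt
  rw [mul_assoc] at h2
  have h3 : p ^ t * m ∣ p ^ (k - 1) := Nat.dvd_of_mul_dvd_mul_left hp1 h2
  obtain ⟨t', -, ht'⟩ := (Nat.dvd_prime_pow hp).mp h3
  refine ⟨t', ?_, by rw [mul_assoc, ht']⟩
  exact Nat.pow_dvd_pow_iff_le_right hp.one_lt |>.mp (ht' ▸ dvd_mul_right (p ^ t) m)

section

variable {P : Type u} [Group P] [Finite P] {p : ℕ}

theorem exists_vanishing_maximal (hp : p.Prime) (hP : IsPGroup p P) {χ : P → ℂ}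
    (hχ : Cfsg.IsIrrCharacter P χ) (h1 : χ 1 ≠ 1) :
    ∃ N : Subgroup P, N.Normal ∧ N.index = p ∧ ∀ g, g ∉ N → χ g = 0 := by
  classical
  have := Fintype.ofFinite P
  have := Fact.mk hp
  have hc := isCharacter_of_isIrr hχ
  have hψ : Cfsg.IsCharacter P (χ * fun g => conj (χ g)) := isCharacter_mul hc (isCharacter_conj hc)
  obtain ⟨m, hm, hmi⟩ := char_decomp hψ
  choose d hd0 hd using fun α : Cfsg.IrrCharacter P => exists_degree_pos α.2
  obtain ⟨n, hn0, hn⟩ := exists_degree_pos hχ
  have hn1 : n ≠ 1 := fun e => h1 (by rw [hn, e, Nat.cast_one])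
  obtain ⟨a, ha⟩ := IsPGroup.iff_card.mp hP
  have hpow : ∀ α : Cfsg.IrrCharacter P, d α = 1 ∨ p ∣ d α := fun α => by
    have h := degree_dvd_card α.2 (hd α)
    rw [ha] at h
    obtain ⟨j, -, hj⟩ := (Nat.dvd_prime_pow hp).mp h
    rcases j with _ | j
    · exact Or.inl (by rw [hj, pow_zero])
    · exact Or.inr (hj ▸ dvd_pow_self p (Nat.succ_ne_zero j))
  have hpn : p ∣ n := by
    have h := degree_dvd_card hχ hn
    rw [ha] at h
    obtain ⟨j, -, hj⟩ := (Nat.dvd_prime_pow hp).mp h
    rcases j with _ | j
    · exact absurd (by rw [hj, pow_zero]) hn1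
    · exact hj ▸ dvd_pow_self p (Nat.succ_ne_zero j)
  have hm1 : m irrOne = 1 := by
    have h := hmi irrOne
    have h2 : Cfsg.classInner (χ * fun g => conj (χ g)) ((irrOne : Cfsg.IrrCharacter P) : P → ℂ) =
        Cfsg.classInner χ χ := by
      simp [classInner_def, irrOne_apply]
    rw [h2, classInner_irr_self hχ] at h
    exact_mod_cast h.symm
  have hsum : n * n = ∑ α, m α * d α := by
    have h := congrFun hm 1
    simp only [Pi.mul_apply, Finset.sum_apply, Pi.smul_apply, smul_eq_mul, hd, hn, map_natCast] at h
    exact_mod_cast h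
  obtain ⟨α, hα1, hαd, hαm⟩ : ∃ α, α ≠ irrOne ∧ d α = 1 ∧ m α ≠ 0 := by
    by_contra hcon
    push Not at hcon
    rw [← Finset.add_sum_erase _ _ (Finset.mem_univ (irrOne : Cfsg.IrrCharacter P)), hm1,
      one_mul, show d irrOne = 1 from by
        have := hd irrOne
        rw [irrOne_apply] at this
        exact_mod_cast this.symm] at hsum
    have h2 : p ∣ ∑ α ∈ Finset.univ.erase (irrOne : Cfsg.IrrCharacter P), m α * d α := by
      refine Finset.dvd_sum fun α hα => ?_
      rcases hpow α with h | h
      · rw [hcon α (Finset.mem_erase.mp hα).1 h]; simp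
      · exact h.mul_left _
    have h3 : p ∣ n * n := hpn.mul_left n
    rw [hsum] at h3
    exact hp.not_dvd_one ((Nat.dvd_add_left h2).mp h3)
  set l : P → ℂ := (α : P → ℂ) with hl
  have hl1 : l 1 = 1 := by rw [hl, hd α, hαd, Nat.cast_one]
  have hlc : Cfsg.IsCharacter P l := isCharacter_of_isIrr α.2
  have hlm := linear_map_mul hlc hl1
  have heq : (fun g => χ g * conj (l g)) = χ := by
    have hirr : Cfsg.IsIrrCharacter P fun g => χ g * conj (l g) :=
      isIrr_mul_linear hχ (isCharacter_conj hlc) (by simp [hl1])
    by_contra hne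
    have h0 := classInner_irr_ne hirr hχ hne
    refine hαm ?_
    have h := hmi α
    rw [show Cfsg.classInner (χ * fun g => conj (χ g)) (α : P → ℂ) =
        Cfsg.classInner (fun g => χ g * conj (l g)) χ by
      simp only [classInner_def, Pi.mul_apply, hl]
      congr 1
      exact Finset.sum_congr rfl fun g _ => by ring, h0] at h
    exact_mod_cast h.symm
  let K : Subgroup P :=
    { carrier := {g | l g = 1}
      one_mem' := hl1
      mul_mem' := fun {a b} (ha : l a = 1) (hb : l b = 1) => by
        show l (a * b) = 1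
        rw [hlm, ha, hb, one_mul]
      inv_mem' := fun {a} (ha : l a = 1) => by
        show l a⁻¹ = 1
        rw [char_inv hlc, ha, map_one] }
  have hK : K ≠ ⊤ := by
    intro e
    refine hα1 (Subtype.ext (funext fun g => ?_))
    have : g ∈ K := e ▸ Subgroup.mem_top g
    rw [irrOne_apply]
    exact this
  obtain ⟨N, hN, hKN⟩ := (eq_top_or_exists_le_coatom K).resolve_left hK
  have : Group.IsNilpotent P := hP.isNilpotent
  have hNn : N.Normal := Subgroup.NormalizerCondition.normal_of_coatom N Group.normalizerCondition_of_isNilpotent hN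
  refine ⟨N, hNn, ?_, fun g hg => ?_⟩
  · have hNt : N ≠ ⊤ := hN.1
    obtain ⟨j, hj⟩ := (hP.to_subgroup N).exists_card_eq
    have hN' : N.index ≠ 1 := fun e => hNt (Subgroup.index_eq_one.mp e)
    obtain ⟨i, hi⟩ : ∃ i, N.index = p ^ i := hP.index N
    have hi0 : i ≠ 0 := fun e => hN' (by rw [hi, e, pow_zero])
    -- a subgroup of order `p` in the quotient gives an overgroup
    have hQ : IsPGroup p (P ⧸ N) := hP.to_quotient N
    have hdvd : p ^ 1 ∣ Nat.card (P ⧸ N) := by
      rw [show Nat.card (P ⧸ N) = p ^ i from hi]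
      exact pow_dvd_pow p (Nat.one_le_iff_ne_zero.mpr hi0)
    obtain ⟨H, hH⟩ := Sylow.exists_subgroup_card_pow_prime p hdvd
    have hlt : N < H.comap (QuotientGroup.mk' N) := by
      refine lt_of_le_of_ne (fun x hx => ?_) fun e => ?_
      · rw [Subgroup.mem_comap, QuotientGroup.mk'_apply, (QuotientGroup.eq_one_iff x).mpr hx]
        exact H.one_mem
      · have : H = ⊥ := by
          rw [← Subgroup.map_comap_eq_self_of_surjective (QuotientGroup.mk'_surjective N) H, ← e,
            QuotientGroup.map_mk'_self]
        rw [this, Subgroup.card_bot, pow_one] at hH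
        exact hp.ne_one hH.symm
    have htop := hN.2 _ hlt
    have : H = ⊤ := by
      rw [← Subgroup.map_comap_eq_self_of_surjective (QuotientGroup.mk'_surjective N) H, htop,
        Subgroup.map_top_of_surjective _ (QuotientGroup.mk'_surjective N)]
    rw [this, Subgroup.card_top, pow_one] at hH
    exact hH
  · have h := congrFun heq g
    by_contra hne
    have h2 : conj (l g) = 1 := mul_left_cancel₀ hne (h.trans (mul_one _).symm)
    exact hg (hKN (show l g = 1 by
      rw [← Complex.conj_conj (l g), h2, map_one]))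

end

set_option maxHeartbeats 1000000 in
theorem index_charKer_bound (p : ℕ) (hp : p.Prime) : ∀ m : ℕ, ∀ (P : Type u) [Group P] [Finite P],
    Nat.card P ≤ m → IsPGroup p P → ∀ (χ : P → ℂ) (hχ : Cfsg.IsIrrCharacter P χ) (a f t : ℕ),
      (charKer (isCharacter_of_isIrr hχ)).index = p ^ a → 0 < a → χ 1 = f →
      Module.finrank ℚ (vf χ) = (p - 1) * p ^ t →
      (p - 1) * a + 1 ≤ f + (p - 1) * (t + 1) * f := by
  classical
  intro m
  induction m with
  | zero =>
    intro P _ _ hle
    exact absurd hle (not_le.mpr Nat.card_pos)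
  | succ m ih =>
    intro P _ _ hle hP χ hχ a f t ha ha0 hf ht
    have := Fintype.ofFinite P
    have := Fact.mk hp
    have hc := isCharacter_of_isIrr hχ
    obtain ⟨k, hk⟩ := IsPGroup.iff_card.mp hP
    have hk0 : 0 < k := by
      rcases Nat.eq_zero_or_pos k with h | h
      · exfalso
        have h1 := (charKer hc).index_mul_card
        rw [hk, h, pow_zero] at h1
        have h2 := Nat.eq_one_of_mul_eq_one_right h1
        rw [ha] at h2
        exact (Nat.one_lt_pow ha0.ne' hp.one_lt).ne' h2
      · exact h
    have hn : 0 < p ^ k := pow_pos hp.pos k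
    have hord : ∀ g : P, orderOf g ∣ p ^ k := fun g => hk ▸ orderOf_dvd_natCard g
    by_cases hf1 : χ 1 = 1
    · -- linear case
      have hf' : f = 1 := by rw [hf] at hf1; exact_mod_cast hf1
      subst hf'
      have hlm := linear_map_mul hc hf1
      let φ : P →* ℂ := { toFun := χ, map_one' := hf1, map_mul' := hlm }
      let φu : P →* ℂˣ := φ.toHomUnits
      have hker : φu.ker = charKer hc := by
        ext g
        rw [MonoidHom.mem_ker, mem_charKer, hf1, Units.ext_iff]
        rfl
      have hcard : Nat.card φu.range = p ^ a := by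
        rw [← ha, ← hker, Subgroup.index_ker]
      obtain ⟨⟨y, hy⟩, hy2⟩ := (IsCyclic.exists_ofOrder_eq_natCard (α := φu.range))
      obtain ⟨g, rfl⟩ := hy
      rw [hcard, ← Subgroup.orderOf_coe, ← orderOf_units] at hy2
      have hprim : IsPrimitiveRoot (χ g) (p ^ a) := by
        have h := IsPrimitiveRoot.orderOf (χ g)
        rwa [show orderOf (χ g) = p ^ a from hy2] at h
      have hle2 : IntermediateField.adjoin ℚ ({χ g} : Set ℂ) ≤ vf χ :=
        IntermediateField.adjoin.mono ℚ _ _ (Set.singleton_subset_iff.mpr ⟨g, rfl⟩)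
      have hdvd := IntermediateField.finrank_dvd_of_le_right hle2
      rw [IntermediateField.adjoin.finrank
          ((hprim.isIntegral (pow_pos hp.pos a)).tower_top),
        ← Polynomial.cyclotomic_eq_minpoly_rat hprim (pow_pos hp.pos a),
        Polynomial.natDegree_cyclotomic, Nat.totient_prime_pow hp ha0, ht, mul_comm] at hdvd
      have h3 : a - 1 ≤ t := (Nat.pow_dvd_pow_iff_le_right hp.one_lt).mp
        (Nat.dvd_of_mul_dvd_mul_left (Nat.sub_pos_of_lt hp.one_lt) hdvd)
      have h4 : (p - 1) * a ≤ (p - 1) * (t + 1) := Nat.mul_le_mul_left _ (by omega)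
      omega
    · obtain ⟨N, hN, hNp, hv⟩ := exists_vanishing_maximal hp hP hχ hf1
      have := Fintype.ofFinite N
      have hcN := isCharacter_res N hc
      obtain ⟨θ', hθ', hθ⟩ := exists_constituent hcN
        (fun h => irr_one_ne_zero hχ (by simpa using congrFun h 1))
      let θ : Cfsg.IrrCharacter N := ⟨θ', hθ'⟩
      obtain ⟨e, d, hned, hnorm⟩ := res_data N hχ hf θ hθ
      rw [norm_res_of_vanish N hχ hv, hNp] at hnorm
      have hee : p = e * e * (inertia N (θ : N → ℂ)).index := by exact_mod_cast hnorm
      have he1 : e = 1 := by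
        rcases (Nat.dvd_prime hp).mp ⟨_, hee.trans (mul_assoc _ _ _)⟩ with h | h
        · exact h
        · exfalso
          rw [h] at hee
          have hp2 := hp.two_le
          have : 0 < (inertia N (θ : N → ℂ)).index :=
            Nat.pos_of_ne_zero Subgroup.index_ne_zero_of_finite
          nlinarith
      subst he1
      simp only [one_mul] at hee hned
      rw [← hee] at hned
      have horb : (orbit N θ).card = p := by rw [card_orbit_eq_index, ← hee]
      have hres : (fun x : N => χ x) = ∑ ψ ∈ orbit N θ, (ψ : N → ℂ) := by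
        have h := res_eq_smul_sum_orbit N hχ θ hθ
        have h2 := degree_eq_mul_card_orbit N hχ θ hθ
        obtain ⟨d', hd'0, hd'⟩ := exists_degree_pos θ.2
        obtain ⟨e', he'⟩ := classInner_char_nat hcN (isCharacter_of_isIrr θ.2)
        rw [he'] at h h2
        have : e' = 1 := by
          have hn2 := congrArg (fun F : N → ℂ => Cfsg.classInner F F) h
          have h7 : ∀ ψ ∈ orbit N θ,
              Cfsg.classInner (ψ : N → ℂ) (∑ x ∈ orbit N θ, (x : N → ℂ)) = 1 := fun ψ hψ => by
            rw [classInner_sum_right, Finset.sum_eq_single ψ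
              (fun b _ hb => classInner_irr_ne ψ.2 b.2 fun e => hb (Subtype.ext e).symm)
              (fun h => absurd hψ h), classInner_irr_self ψ.2]
          rw [norm_res_of_vanish N hχ hv, hNp, classInner_smul_left, classInner_smul_right,
            classInner_sum_left, Finset.sum_congr rfl h7,
            Finset.sum_const, horb, map_natCast, nsmul_eq_mul, mul_one] at hn2
          have h5 : p = e' * (e' * p) := by exact_mod_cast hn2
          have h6 : 1 * p = (e' * e') * p := by linarith
          exact (Nat.eq_one_of_mul_eq_one_right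
            (Nat.eq_of_mul_eq_mul_right hp.pos h6).symm)
        rw [this, Nat.cast_one, one_smul] at h
        exact h
      have hd : (θ : N → ℂ) 1 = d := by
        obtain ⟨d', -, hd'⟩ := exists_degree_pos θ.2
        have h := congrFun hres 1
        have h1 : ∀ ψ ∈ orbit N θ, (ψ : N → ℂ) 1 = (θ : N → ℂ) 1 := fun ψ hψ => by
          obtain ⟨g, hg⟩ := (mem_orbit N).mp hψ
          rw [← hg, conjFun_apply_one]
        rw [Finset.sum_apply, Finset.sum_congr rfl h1,
          Finset.sum_const, horb, nsmul_eq_mul, hd'] at h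
        simp only [OneMemClass.coe_one, hf] at h
        have : f = p * d' := by exact_mod_cast h
        rw [hned] at this
        rw [hd', Nat.eq_of_mul_eq_mul_left hp.pos this]
      -- values of `χ` lie in the value field of `θ`
      have hconjrange : ∀ ψ ∈ orbit N θ, ∀ x, (ψ : N → ℂ) x ∈ vf (θ : N → ℂ) := by
        intro ψ hψ x
        obtain ⟨g, hg⟩ := (mem_orbit N).mp hψ
        rw [← hg, conjFun_apply]
        exact IntermediateField.subset_adjoin ℚ _ ⟨_, rfl⟩
      have hKL : vf χ ≤ vf (θ : N → ℂ) := by
        rw [IntermediateField.adjoin_le_iff]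
        rintro _ ⟨g, rfl⟩
        by_cases hg : g ∈ N
        · rw [show χ g = (fun x : N => χ x) ⟨g, hg⟩ from rfl, hres, Finset.sum_apply]
          exact sum_mem fun ψ hψ => hconjrange ψ hψ _
        · rw [hv g hg]
          exact zero_mem _
      have hθc := isCharacter_of_isIrr θ.2
      have hordN : ∀ g : N, orderOf g ∣ p ^ k := fun g => by
        rw [← Subgroup.orderOf_coe]; exact hord g
      have hLC := vf_le_cyclo hθc hn hordN
      have hd1 := IntermediateField.finrank_dvd_of_le_right hKL
      have hd2 := IntermediateField.finrank_dvd_of_le_right hLC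
      rw [finrank_cyclo hn] at hd2
      rw [ht] at hd1
      obtain ⟨t', htt', hft'⟩ := shape hp hk0 hd1 hd2
      -- counting embeddings of the value field of `θ` over that of `χ`
      set K : IntermediateField ℚ ℂ := vf χ with hKdef
      let L : IntermediateField K ℂ := IntermediateField.adjoin K (Set.range (θ : N → ℂ))
      have hLres : L.restrictScalars ℚ = vf (θ : N → ℂ) := by
        refine le_antisymm ?_ (IntermediateField.adjoin_le_iff.mpr
          (IntermediateField.subset_adjoin K _))
        intro x hx
        have h : L ≤ IntermediateField.extendScalars hKL :=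
          IntermediateField.adjoin_le_iff.mpr (IntermediateField.subset_adjoin ℚ _)
        exact h hx
      have hrank : Module.finrank ℚ K * Module.finrank K L = (p - 1) * p ^ t' := by
        rw [Module.finrank_mul_finrank ℚ K L]
        rw [← hft', ← hLres]
        rfl
      have hKLd : Module.finrank K L = p ^ (t' - t) := by
        rw [ht, mul_assoc] at hrank
        have h := Nat.eq_of_mul_eq_mul_left (Nat.sub_pos_of_lt hp.one_lt) hrank
        rw [← Nat.add_sub_cancel' htt', pow_add] at h
        exact Nat.eq_of_mul_eq_mul_left (pow_pos hp.pos t) h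
      have : FiniteDimensional K L :=
        Module.finite_of_finrank_pos (hKLd ▸ pow_pos hp.pos _)
      -- every embedding comes from a Galois conjugation
      have hemb : ∀ τ : L →ₐ[K] ℂ, ∃ σ : ℂ ≃+* ℂ, (∀ g, σ (χ g) = χ g) ∧
          ∀ x : N, τ ⟨(θ : N → ℂ) x, IntermediateField.subset_adjoin K _ ⟨x, rfl⟩⟩ =
            σ ((θ : N → ℂ) x) := by
        intro τ
        let C : IntermediateField K ℂ := IntermediateField.adjoin K ({rt (p ^ k)} : Set ℂ)
        have hLleC : L ≤ C := by
          refine IntermediateField.adjoin_le_iff.mpr ?_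
          rintro _ ⟨x, rfl⟩
          have h := hLC (IntermediateField.subset_adjoin ℚ _ ⟨x, rfl⟩)
          have h2 : IntermediateField.adjoin ℚ ({rt (p ^ k)} : Set ℂ) ≤ C.restrictScalars ℚ :=
            IntermediateField.adjoin_le_iff.mpr (IntermediateField.subset_adjoin K _)
          exact h2 h
        have hint : IsIntegral K (rt (p ^ k)) :=
          ((Complex.isPrimitiveRoot_exp _ hn.ne').isIntegral hn).tower_top
        obtain ⟨T, hT⟩ := IntermediateField.exists_algHom_adjoin_of_splits
          (fun s hs => by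
            rw [Set.mem_singleton_iff.mp hs]
            exact ⟨hint, IsAlgClosed.splits _⟩) τ hLleC
        have hζC : rt (p ^ k) ∈ C := IntermediateField.mem_adjoin_simple_self K _
        have hprim : IsPrimitiveRoot (T ⟨_, hζC⟩) (p ^ k) := by
          refine IsPrimitiveRoot.map_of_injective ?_ T.injective
          exact IsPrimitiveRoot.of_map_of_injective (f := C.val)
            (Complex.isPrimitiveRoot_exp _ hn.ne') C.val.injective
        have : NeZero (p ^ k) := ⟨hn.ne'⟩
        obtain ⟨j, -, hj, hjζ⟩ := (Complex.isPrimitiveRoot_exp _ hn.ne').isPrimitiveRoot_iff.mp hprim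
        obtain ⟨σ, hσ⟩ := exists_ringEquiv_root_pow hn.ne' hj
        have hag : ∀ x ∈ IntermediateField.adjoin ℚ ({rt (p ^ k)} : Set ℂ),
            ∃ hx : x ∈ C, T ⟨x, hx⟩ = σ x := by
          intro x hx
          induction hx using IntermediateField.adjoin_induction with
          | mem y hy =>
            rw [Set.mem_singleton_iff] at hy
            subst hy
            exact ⟨hζC, by rw [← hjζ, hσ _ (Complex.isPrimitiveRoot_exp _ hn.ne').pow_eq_one]⟩
          | algebraMap q =>
            refine ⟨by simp, ?_⟩
            have : (⟨algebraMap ℚ ℂ q, by simp⟩ : C) = (q : C) := Subtype.ext (by simp)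
            rw [this, map_ratCast, eq_ratCast, map_ratCast]
          | add y z _ _ hy hz =>
            obtain ⟨hy1, hy2⟩ := hy
            obtain ⟨hz1, hz2⟩ := hz
            refine ⟨add_mem hy1 hz1, ?_⟩
            rw [map_add σ, ← hy2, ← hz2, ← map_add T]
            rfl
          | inv y _ hy =>
            obtain ⟨hy1, hy2⟩ := hy
            refine ⟨inv_mem hy1, ?_⟩
            rw [map_inv₀ σ, ← hy2, ← map_inv₀ T]
            rfl
          | mul y z _ _ hy hz =>
            obtain ⟨hy1, hy2⟩ := hy
            obtain ⟨hz1, hz2⟩ := hz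
            refine ⟨mul_mem hy1 hz1, ?_⟩
            rw [map_mul σ, ← hy2, ← hz2, ← map_mul T]
            rfl
        refine ⟨σ, fun g => ?_, fun x => ?_⟩
        · have hgK : χ g ∈ K := IntermediateField.subset_adjoin ℚ _ ⟨g, rfl⟩
          obtain ⟨hx, hx2⟩ := hag _ (vf_le_cyclo hc hn hord hgK)
          rw [← hx2]
          exact (T.commutes ⟨χ g, hgK⟩)
        · obtain ⟨hx, hx2⟩ := hag _ (hLC (IntermediateField.subset_adjoin ℚ _ ⟨x, rfl⟩))
          rw [← hx2, ← hT]
          rfl
      choose σ hσχ hσθ using hemb
      have hΦ : ∀ τ, galIrr (σ τ) θ ∈ orbit N θ := by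
        intro τ
        refine (mem_orbit N).mpr (exists_conj_of_constituents N hχ θ.2 (galIrr (σ τ) θ).2 hθ ?_)
        have h1 : (fun x : N => χ x) = (σ τ) ∘ (fun x : N => χ x) :=
          funext fun x => (hσχ τ _).symm
        rw [h1]
        show Cfsg.classInner _ ((σ τ) ∘ (θ : N → ℂ)) ≠ 0
        rw [classInner_ringEquiv _ _ hθc]
        exact fun h => hθ ((map_eq_zero_iff _ (σ τ).injective).mp h)
      have hΦinj : Function.Injective fun τ => galIrr (σ τ) θ := by
        intro τ₁ τ₂ h
        refine AlgHom.ext fun z => ?_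
        obtain ⟨z, hz⟩ := z
        induction hz using IntermediateField.adjoin_induction with
        | mem y hy =>
          obtain ⟨x, rfl⟩ := hy
          rw [hσθ, hσθ]
          exact congrFun (congrArg Subtype.val h) x
        | algebraMap q => exact (τ₁.commutes q).trans (τ₂.commutes q).symm
        | add y w hy hw h1 h2 =>
          rw [show (⟨y + w, add_mem hy hw⟩ : L) = ⟨y, hy⟩ + ⟨w, hw⟩ from rfl, map_add, map_add,
            h1, h2]
        | inv y hy h1 =>
          rw [show (⟨y⁻¹, inv_mem hy⟩ : L) = ⟨y, hy⟩⁻¹ from rfl, map_inv₀, map_inv₀, h1]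
        | mul y w hy hw h1 h2 =>
          rw [show (⟨y * w, mul_mem hy hw⟩ : L) = ⟨y, hy⟩ * ⟨w, hw⟩ from rfl, map_mul, map_mul,
            h1, h2]
      have hcardhom : Fintype.card (L →ₐ[K] ℂ) = p ^ (t' - t) := (AlgHom.card K L ℂ).trans hKLd
      have himg : (Finset.univ.image fun τ => galIrr (σ τ) θ) ⊆ orbit N θ := by
        intro ψ hψ
        obtain ⟨τ, -, rfl⟩ := Finset.mem_image.mp hψ
        exact hΦ τ
      have hle' := Finset.card_le_card himg
      rw [Finset.card_image_of_injective _ hΦinj, Finset.card_univ, hcardhom, horb] at hle'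
      have ht1 : t' ≤ t + 1 := by
        have := (Nat.pow_le_pow_iff_right hp.one_lt).mp (hle'.trans (pow_one p).ge)
        omega
      -- kernels
      set κ := charKer hθc with hκ
      have hkerN : (charKer hc).subgroupOf N =
          ⨅ ψ : {ψ // ψ ∈ orbit N θ}, charKer (isCharacter_of_isIrr ψ.1.2) := by
        ext x
        rw [Subgroup.mem_subgroupOf, mem_charKer, Subgroup.mem_iInf]
        have e1 := congrFun hres x
        have e2 := congrFun hres 1
        simp only [OneMemClass.coe_one] at e1 e2
        rw [e1, e2, Finset.sum_apply, Finset.sum_apply]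
        constructor
        · intro h ψ
          rw [mem_charKer]
          have hre := congrArg Complex.re h
          rw [Complex.re_sum, Complex.re_sum] at hre
          have hle3 : ∀ φ ∈ orbit N θ, ((φ : N → ℂ) x).re ≤ ((φ : N → ℂ) 1).re := fun φ _ =>
            (Complex.re_le_norm _).trans (norm_char_le (isCharacter_of_isIrr φ.2) x)
          have h4 := (Finset.sum_eq_sum_iff_of_le hle3).mp hre ψ.1 ψ.2
          obtain ⟨n', hn'⟩ := exists_degree (isCharacter_of_isIrr ψ.1.2)
          have hnorm := norm_char_le (isCharacter_of_isIrr ψ.1.2) x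
          rw [hn'] at h4 hnorm ⊢
          simp only [Complex.natCast_re] at h4 hnorm
          refine Complex.ext (by simpa using h4) ?_
          have hsq := Complex.sq_norm ((ψ.1 : N → ℂ) x)
          rw [Complex.normSq_apply, h4] at hsq
          have : ((ψ.1 : N → ℂ) x).im * ((ψ.1 : N → ℂ) x).im ≤ 0 := by
            nlinarith [norm_nonneg ((ψ.1 : N → ℂ) x)]
          simpa using mul_self_eq_zero.mp (le_antisymm this (mul_self_nonneg _))
        · intro h
          exact Finset.sum_congr rfl fun ψ hψ => (mem_charKer).mp (h ⟨ψ, hψ⟩)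
      have hindex : ∀ ψ : {ψ // ψ ∈ orbit N θ},
          (charKer (isCharacter_of_isIrr ψ.1.2)).index = κ.index := by
        intro ψ
        obtain ⟨g, hg⟩ := (mem_orbit N).mp ψ.2
        have : charKer (isCharacter_of_isIrr ψ.1.2) =
            κ.comap (MulAut.conjNormal g : MulAut N).toMonoidHom := by
          ext x
          rw [Subgroup.mem_comap, mem_charKer, hκ, mem_charKer, ← hg, conjFun_apply_one,
            conjFun_apply]
          rfl
        rw [this, Subgroup.index_comap_of_surjective _ (MulEquiv.surjective _)]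
      have hNP : IsPGroup p N := hP.to_subgroup N
      obtain ⟨a', ha'⟩ := hNP.index κ
      have hcNle : charKer hc ≤ N := by
        intro g hg
        by_contra hgN
        rw [mem_charKer, hv g hgN, hf] at hg
        have : f = 0 := by exact_mod_cast hg.symm
        rw [this, Nat.cast_zero] at hf
        exact irr_one_ne_zero hχ hf
      have hidx : ((charKer hc).subgroupOf N).index * p = p ^ a := by
        rw [← ha, ← hNp, ← Subgroup.relIndex, Subgroup.relIndex_mul_index hcNle]
      have hupper : ((charKer hc).subgroupOf N).index ≤ (p ^ a') ^ p := by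
        rw [hkerN]
        refine le_trans (Subgroup.index_iInf_le _) (le_of_eq ?_)
        rw [Finset.prod_congr rfl fun ψ _ => (hindex ψ).trans ha', Finset.prod_const,
          Finset.card_univ, Fintype.card_coe, horb]
      have ha'0 : 0 < a' := by
        rcases Nat.eq_zero_or_pos a' with h | h
        · exfalso
          have hκt : κ = ⊤ := Subgroup.index_eq_one.mp (by rw [ha', h, pow_zero])
          have hinv : ∀ g : P, conjFun N g θ = (θ : N → ℂ) := fun g => funext fun x => by
            have h1 : ∀ y : N, (θ : N → ℂ) y = (θ : N → ℂ) 1 := fun y =>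
              (mem_charKer (hχ := hθc)).mp (by rw [← hκ, hκt]; exact Subgroup.mem_top y)
            rw [conjFun_apply, h1, h1 x]
          rw [orbit_eq_singleton N hinv, Finset.card_singleton] at horb
          exact hp.ne_one horb.symm
        · exact h
      have hlt : Nat.card N ≤ m := by
        have h := N.card_mul_index
        rw [hNp] at h
        have h2 := hp.two_le
        have h3 : 0 < Nat.card N := Nat.card_pos
        nlinarith
      have hIH := ih N hlt hNP θ θ.2 a' d t' ha' ha'0 hd hft'
      have hd1' : 1 ≤ d := by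
        obtain ⟨d', hd'0, hd'⟩ := exists_degree_pos θ.2
        rw [hd] at hd'
        have : d = d' := by exact_mod_cast hd'
        omega
      subst hned
      obtain ⟨q, rfl⟩ : ∃ q, p = q + 2 := ⟨p - 2, by have := hp.two_le; omega⟩
      rw [show q + 2 - 1 = q + 1 from rfl] at hIH ⊢
      rcases Nat.lt_or_ge t t' with hlt' | hge
      · have e : t' = t + 1 := le_antisymm ht1 hlt'
        subst e
        have hall : ∀ ψ ∈ orbit N θ, ∃ τ, galIrr (σ τ) θ = ψ := by
          intro ψ hψ
          have heq : (Finset.univ.image fun τ => galIrr (σ τ) θ) = orbit N θ := by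
            refine Finset.eq_of_subset_of_card_le himg ?_
            rw [Finset.card_image_of_injective _ hΦinj, Finset.card_univ, hcardhom, horb]
            simp
          obtain ⟨τ, -, hτ⟩ := Finset.mem_image.mp (heq ▸ hψ)
          exact ⟨τ, hτ⟩
        have hkeq : (charKer hc).subgroupOf N = κ := by
          rw [hkerN]
          have he : ∀ ψ : {ψ // ψ ∈ orbit N θ}, charKer (isCharacter_of_isIrr ψ.1.2) = κ := by
            intro ψ
            obtain ⟨τ, hτ⟩ := hall ψ.1 ψ.2
            ext x
            rw [mem_charKer, hκ, mem_charKer, ← hτ, galIrr_apply, galIrr_apply]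
            exact (σ τ).injective.eq_iff
          haveI : Nonempty {ψ // ψ ∈ orbit N θ} := ⟨⟨θ, self_mem_orbit N θ⟩⟩
          simp only [he, iInf_const]
        rw [hkeq, ha', ← pow_succ] at hidx
        have ea : a' + 1 = a := Nat.pow_right_injective hp.two_le hidx
        subst ea
        nlinarith [Nat.mul_le_mul_left (q + 1) hd1', Nat.zero_le ((q + 1) * d * (t * q + t + q))]
      · have e : t' = t := le_antisymm hge htt'
        subst e
        have h5 : (q + 2) ^ a ≤ (q + 2) ^ (a' * (q + 2) + 1) := by
          rw [← hidx, pow_succ, pow_mul]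
          exact Nat.mul_le_mul_right _ hupper
        have ea := (Nat.pow_le_pow_iff_right hp.one_lt).mp h5
        have h6 := Nat.mul_le_mul_left (q + 1) ea
        have h7 := Nat.mul_le_mul_left (q + 2) hIH
        nlinarith

end

end CfsgLib.CharPGroup
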